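import Groth.Agent.S6050
import Groth.Prelude.Def_W4c3convisocdirimgFrobIter
import Groth.Agent.PropPi1.Geom
import Groth.Prelude

/-!
Subgroups of a group scheme descending, up to nilpotents, subgroups over a purely inseparable extension.
-/

set_option autoImplicit false
set_option backward.isDefEq.respectTransparency false
set_option backward.isDefEq.respectTransparency.types false
set_option maxHeartbeats 800000
set_option synthInstance.maxHeartbeats 400000
set_option linter.style.haveILetI false

universe u

open CategoryTheory CategoryTheory.Limits MonoidalCategory CartesianMonoidalCategory MonObj GrpObj AlgebraicGeometry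

noncomputable section

namespace Groth.Agent.InsepSubLib

variable {k K : Scheme.{u}} (q : K ⟶ k)

/-- A Frobenius-like family of endomorphisms whose value on `K` factors through `k`. -/
structure FrobData where
  F : ∀ Y : Over k, Y.left ⟶ Y.left
  nat : ∀ {Y Z : Over k} (f : Y ⟶ Z), F Y ≫ f.left = f.left ≫ F Z
  apply_eq : ∀ (Y : Over k) (y : Y.left), F Y y = y
  ψ : k ⟶ K
  base : ψ ≫ q = F (Over.mk (𝟙 k))
  top : F (Over.mk q) = q ≫ ψ

variable {q} (D : FrobData q)

/-- The twist map `T^(ψ) → T` over the base. -/
def FrobData.e (T : Over k) : (Over.map q).obj ((Over.map D.ψ).obj T) ⟶ T :=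
  Over.homMk (D.F T) (by
    show D.F T ≫ T.hom = (T.hom ≫ D.ψ) ≫ q
    rw [Category.assoc, D.base]
    exact D.nat (Over.homMk T.hom (by simp) : T ⟶ Over.mk (𝟙 k)))

theorem FrobData.e_natural {T T' : Over k} (a : T ⟶ T') :
    (Over.map q).map ((Over.map D.ψ).map a) ≫ D.e T' = D.e T ≫ a :=
  Over.OverMorphism.ext (D.nat a).symm

/-- The twisted point. -/
def FrobData.hat {G : Over k} {T : Over k} (g : T ⟶ G) : (Over.map D.ψ).obj T ⟶ Red.bc q G :=
  (Over.mapPullbackAdj q).homEquiv _ _ (D.e T ≫ g)

theorem FrobData.hat_comp {G T T' : Over k} (a : T ⟶ T') (g : T' ⟶ G) :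
    D.hat (a ≫ g) = (Over.map D.ψ).map a ≫ D.hat g := by
  rw [FrobData.hat, FrobData.hat, ← Adjunction.homEquiv_naturality_left]
  rw [← Category.assoc, ← Category.assoc, D.e_natural]

variable {G : Over k} [GrpObj G]

theorem FrobData.hat_mul {T : Over k} (g g' : T ⟶ G) :
    D.hat (g * g') = D.hat g * D.hat g' := by
  simp only [FrobData.hat, Adjunction.homEquiv_unit, MonObj.comp_mul]
  rw [Functor.map_mul, MonObj.comp_mul]

theorem FrobData.hat_one {T : Over k} :
    D.hat (1 : T ⟶ G) = (1 : (Over.map D.ψ).obj T ⟶ Red.bc q G) := by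
  simp only [FrobData.hat, Adjunction.homEquiv_unit, MonObj.comp_one]
  rw [Functor.map_one, MonObj.comp_one]

theorem FrobData.hat_inv {T : Over k} (g : T ⟶ G) :
    D.hat g⁻¹ = (D.hat g : (Over.map D.ψ).obj T ⟶ Red.bc q G)⁻¹ := by
  refine eq_inv_of_mul_eq_one_right ?_
  rw [← D.hat_mul, mul_inv_cancel, D.hat_one]

variable {H' : Over K} [GrpObj H'] (h' : H' ⟶ Red.bc q G) [IsMonHom h'] [IsClosedImmersion h'.left]

/-- The descended subgroup, as an object. -/
def FrobData.sub : Over k := Over.mk (pullback.fst (D.hat (𝟙 G)).left h'.left ≫ G.hom)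

/-- Its inclusion. -/
def FrobData.incl : D.sub h' ⟶ G := Over.homMk (pullback.fst (D.hat (𝟙 G)).left h'.left) rfl

instance FrobData.incl_closed : IsClosedImmersion (D.incl h').left :=
  inferInstanceAs (IsClosedImmersion (pullback.fst (D.hat (𝟙 G)).left h'.left))

theorem FrobData.factors_iff {T : Over k} (g : T ⟶ G) :
    (∃ a : T ⟶ D.sub h', a ≫ D.incl h' = g) ↔
      ∃ b : (Over.map D.ψ).obj T ⟶ H', b ≫ h' = D.hat g := by
  constructor
  · rintro ⟨a, rfl⟩
    refine ⟨Over.homMk (a.left ≫ pullback.snd (D.hat (𝟙 G)).left h'.left) ?_, ?_⟩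
    · have h1 := Over.w ((Over.map D.ψ).map (a ≫ D.incl h') ≫ D.hat (𝟙 G))
      refine Eq.trans ?_ h1
      show (a.left ≫ pullback.snd _ _) ≫ H'.hom = _
      rw [← Over.w h', Category.assoc, ← pullback.condition_assoc]
      simp only [Over.comp_left, Category.assoc]
      rfl
    · refine Eq.trans ?_ ((D.hat_comp (a ≫ D.incl h') (𝟙 G)).symm.trans (congrArg D.hat (Category.comp_id _)))
      apply Over.OverMorphism.ext
      show (a.left ≫ pullback.snd _ _) ≫ h'.left = (a.left ≫ pullback.fst _ _) ≫ (D.hat (𝟙 G)).left
      rw [Category.assoc, ← pullback.condition, ← Category.assoc]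
  · rintro ⟨b, hb⟩
    rw [← Category.comp_id g, D.hat_comp] at hb
    have hb' : g.left ≫ (D.hat (𝟙 G)).left = b.left ≫ h'.left := (congrArg (fun m => m.left) hb).symm
    refine ⟨Over.homMk (pullback.lift g.left b.left hb') ?_, Over.OverMorphism.ext (pullback.lift_fst _ _ _)⟩
    show pullback.lift g.left b.left hb' ≫ pullback.fst _ _ ≫ G.hom = T.hom
    rw [pullback.lift_fst_assoc, Over.w]

theorem FrobData.exists_grpObj :
    ∃ str : GrpObj (D.sub h'), @IsMonHom (Over k) _ _ _ G str.toMonObj _ (D.incl h') := by
  haveI : Mono (D.incl h') := Over.mono_of_mono_left _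
  have hf : ∀ {T : Over k} (a : T ⟶ D.sub h'), ∃ b : (Over.map D.ψ).obj T ⟶ H', b ≫ h' = D.hat (a ≫ D.incl h') :=
    fun a => (D.factors_iff h' _).1 ⟨a, rfl⟩
  refine S6050.S6050Aux.exists_grpObj_of_closed (D.incl h') ?_ (fun W a b => ?_) fun W a => ?_
  · refine (D.factors_iff h' η[G]).2 ⟨1, ?_⟩
    rw [MonObj.one_comp, show η[G] = (1 : 𝟙_ (Over k) ⟶ G) by
      rw [Hom.one_def, toUnit_unique (toUnit _) (𝟙 _), Category.id_comp], D.hat_one]
  · obtain ⟨p, hp⟩ := hf a
    obtain ⟨r, hr⟩ := hf b
    exact (D.factors_iff h' _).2 ⟨p * r, by rw [MonObj.mul_comp, hp, hr, D.hat_mul]⟩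
  · obtain ⟨p, hp⟩ := hf a
    exact (D.factors_iff h' _).2 ⟨p⁻¹, by rw [GrpObj.inv_comp, hp, D.hat_inv]⟩

theorem FrobData.exists_lift :
    ∃ g : H' ⟶ Red.bc q (D.sub h'), g ≫ (Over.pullback q).map (D.incl h') = h' := by
  let adj := Over.mapPullbackAdj q
  let g₀ : (Over.map q).obj H' ⟶ G := (adj.homEquiv _ _).symm h'
  obtain ⟨a, ha⟩ : ∃ a : (Over.map q).obj H' ⟶ D.sub h', a ≫ D.incl h' = g₀ := by
    refine (D.factors_iff h' _).2 ?_
    let b : (Over.map D.ψ).obj ((Over.map q).obj H') ⟶ H' :=
      Over.homMk (D.F ((Over.map q).obj H')) (by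
        show D.F ((Over.map q).obj H') ≫ H'.hom = (H'.hom ≫ q) ≫ D.ψ
        rw [Category.assoc, ← D.top]
        exact D.nat (Over.homMk H'.hom rfl : (Over.map q).obj H' ⟶ Over.mk q))
    refine ⟨b, ?_⟩
    rw [FrobData.hat, ← Equiv.symm_apply_eq, Adjunction.homEquiv_naturality_left_symm]
    rfl
  refine ⟨adj.homEquiv _ _ a, ?_⟩
  rw [← Adjunction.homEquiv_naturality_right, ha]
  exact (adj.homEquiv _ _).apply_symm_apply h'

theorem FrobData.surjective_lift [UniversallyInjective q] (g : H' ⟶ Red.bc q (D.sub h'))
    (hg : g ≫ (Over.pullback q).map (D.incl h') = h') : Surjective g.left := by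
  haveI : UniversallyInjective (pullback.fst G.hom q) := MorphismProperty.pullback_fst _ _ inferInstance
  haveI : IsClosedImmersion ((Over.pullback q).map (D.incl h')).left :=
    MorphismProperty.baseChange_map (P := @IsClosedImmersion) q (D.incl h') inferInstance
  refine ⟨fun y => ?_⟩
  let z := ((Over.pullback q).map (D.incl h')).left y
  let v : (D.sub h').left := pullback.fst (D.sub h').hom q y
  have hθ : (D.hat (𝟙 G)).left ((D.incl h').left v) = z := by
    apply (pullback.fst G.hom q).injective
    have h1 : (D.hat (𝟙 G)).left ≫ pullback.fst G.hom q = D.F G := by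
      rw [FrobData.hat, Category.comp_id, Adjunction.homEquiv_unit]
      simp [FrobData.e, Over.mapPullbackAdj]
      exact Category.id_comp _
    have h2 : ((Over.pullback q).map (D.incl h')).left ≫ pullback.fst G.hom q =
        pullback.fst (D.sub h').hom q ≫ (D.incl h').left := pullback.lift_fst _ _ _
    show _ = pullback.fst G.hom q (((Over.pullback q).map (D.incl h')).left y)
    refine (congrArg (fun m : G.left ⟶ G.left => m ((D.incl h').left v)) h1).trans ?_
    rw [D.apply_eq]
    exact (congrArg (fun m : (Red.bc q (D.sub h')).left ⟶ G.left => m y) h2).symm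
  obtain ⟨w, hw⟩ : z ∈ Set.range h'.left := by
    refine ⟨pullback.snd (D.hat (𝟙 G)).left h'.left v, ?_⟩
    rw [← hθ, ← Scheme.Hom.comp_apply, ← pullback.condition, Scheme.Hom.comp_apply]
    rfl
  refine ⟨w, ((Over.pullback q).map (D.incl h')).left.isClosedEmbedding.injective ?_⟩
  rw [← Scheme.Hom.comp_apply, ← Over.comp_left, hg]
  exact hw

section Fields

variable (p n : ℕ) [Fact p.Prime]

theorem frobIter_apply (X : Scheme.{u}) [FrobSch.IsCharP X p] (x : X) : FrobSch.frobIter X p n x = x := by
  induction n generalizing x with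
  | zero => rfl
  | succ n ih => rw [FrobSch.frobIter_succ, Scheme.Hom.comp_apply, ih]; rfl

theorem frobIter_comp {X Y : Scheme.{u}} [FrobSch.IsCharP X p] [FrobSch.IsCharP Y p] (f : X ⟶ Y) :
    FrobSch.frobIter X p n ≫ f = f ≫ FrobSch.frobIter Y p n := by
  induction n with
  | zero => simp
  | succ n ih => rw [FrobSch.frobIter_succ, FrobSch.frobIter_succ, Category.assoc, ih, FrobSch.frob_comp_assoc]

theorem frobIter_Spec (R : Type u) [CommRing R] [CharP R p] :
    FrobSch.frobIter (Spec (CommRingCat.of R)) p n = Spec.map (CommRingCat.ofHom (iterateFrobenius R p n)) := by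
  induction n with
  | zero =>
    rw [FrobSch.frobIter_zero, show iterateFrobenius R p 0 = RingHom.id R from iterateFrobenius_zero R p]
    exact (Spec.map_id _).symm
  | succ n ih =>
    have h1 : FrobSch.frob (Spec (CommRingCat.of R)) p = Spec.map (CommRingCat.ofHom (frobenius R p)) := by
      apply ext_of_isAffine
      apply CommRingCat.hom_ext
      ext s
      obtain ⟨r, rfl⟩ := (Scheme.ΓSpecIso (CommRingCat.of R)).commRingCatIsoToRingEquiv.symm.surjective s
      show ((Scheme.ΓSpecIso (CommRingCat.of R)).inv r) ^ p = _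
      rw [← map_pow]
      exact (congrArg (fun m => m.hom r)
        (Scheme.ΓSpecIso_inv_naturality (CommRingCat.ofHom (frobenius R p)))).trans rfl
    rw [FrobSch.frobIter_succ, ih, h1, ← Spec.map_comp, ← CommRingCat.ofHom_comp]
    congr 2
    ext r
    simp [iterateFrobenius_def, frobenius_def, pow_succ, pow_mul]

end Fields

/-- The Frobenius data of a finite purely inseparable field extension. -/
theorem exists_frobData (k K : Type u) [Field k] [Field K] [Algebra k K] [Module.Finite k K]
    [IsPurelyInseparable k K] : Nonempty (FrobData (Spec.map (CommRingCat.ofHom (algebraMap k K)))) := by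
  let c := algebraMap k K
  obtain ⟨qk, hqk⟩ := ExpChar.exists k
  haveI := expChar_of_injective_ringHom c.injective qk
  rcases hqk with h | hp
  · haveI : IsPurelyInseparable k K := ‹_›
    have hsur : Function.Surjective c := IsPurelyInseparable.surjective_algebraMap_of_isSeparable k K
    let e := RingEquiv.ofBijective c ⟨c.injective, hsur⟩
    exact ⟨{ F := fun Y => 𝟙 Y.left
             nat := fun f => by simp
             apply_eq := fun _ _ => rfl
             ψ := Spec.map (CommRingCat.ofHom e.symm.toRingHom)
             base := by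
               rw [← Spec.map_comp, ← CommRingCat.ofHom_comp, show e.symm.toRingHom.comp c = RingHom.id k from
                 RingHom.ext fun a => e.symm_apply_apply a]
               exact Spec.map_id _
             top := by
               rw [← Spec.map_comp, ← CommRingCat.ofHom_comp, show c.comp e.symm.toRingHom = RingHom.id K from
                 RingHom.ext fun a => e.apply_symm_apply a]
               exact (Spec.map_id _).symm }⟩
  · haveI : Fact qk.Prime := ⟨‹_›⟩
    haveI : CharP k qk := ‹_›
    haveI : CharP K qk := charP_of_injective_ringHom c.injective qk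
    haveI : IsPurelyInseparable.HasExponent k K := inferInstance
    let n := IsPurelyInseparable.exponent k K
    have hn : ∀ a : K, ∃ b, c b = a ^ qk ^ n := fun a => IsPurelyInseparable.exponent_def' k qk a
    choose b hb using hn
    let ψ₀ : K →+* k :=
      { toFun := b
        map_one' := c.injective (by rw [hb, one_pow, map_one])
        map_mul' := fun x y => c.injective (by rw [map_mul, hb, hb, hb, mul_pow])
        map_zero' := c.injective (by rw [hb, map_zero]; exact zero_pow (pow_ne_zero _ (Nat.Prime.ne_zero Fact.out)))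
        map_add' := fun x y => c.injective (by rw [map_add, hb, hb, hb, add_pow_char_pow]) }
    haveI : ∀ Y : Over (Spec (CommRingCat.of k)), FrobSch.IsCharP Y.left qk := fun Y => FrobSch.IsCharP.of_hom Y.hom qk
    exact ⟨{ F := fun Y => FrobSch.frobIter Y.left qk n
             nat := fun f => frobIter_comp qk n f.left
             apply_eq := fun Y y => frobIter_apply qk n Y.left y
             ψ := Spec.map (CommRingCat.ofHom ψ₀)
             base := by
               show _ = FrobSch.frobIter (Spec (CommRingCat.of k)) qk n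
               rw [frobIter_Spec, ← Spec.map_comp, ← CommRingCat.ofHom_comp]
               congr 2
               exact RingHom.ext fun a => c.injective (by
                 show c (b (c a)) = c (iterateFrobenius k qk n a)
                 rw [hb, iterateFrobenius_def, map_pow])
             top := by
               show FrobSch.frobIter (Spec (CommRingCat.of K)) qk n = _
               rw [frobIter_Spec, ← Spec.map_comp, ← CommRingCat.ofHom_comp]
               congr 2
               exact RingHom.ext fun a => (by
                 show iterateFrobenius K qk n a = c (b a)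
                 rw [hb, iterateFrobenius_def]) }⟩

end Groth.Agent.InsepSubLib
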